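import Groth.Agent.ParShLib.Coeff
import Groth.Agent.ParShLib.Asymp
import Mathlib.CategoryTheory.Abelian.Refinements
import Mathlib.CategoryTheory.Subobject.Limits

/-!
# The first modified parabolic polynomial and semistable flag quotients
-/

set_option linter.style.haveILetI false
set_option linter.unusedSectionVars false
set_option backward.isDefEq.respectTransparency false
set_option backward.isDefEq.respectTransparency.types false
set_option maxHeartbeats 1000000
set_option autoImplicit false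

universe v u

open CategoryTheory CategoryTheory.Limits AlgebraicGeometry Polynomial

noncomputable section

namespace Groth.Agent.ParShLib

open Groth.Agent W4swparbununimod

section Abelian

variable {C : Type u} [Category.{v} C] [Abelian C] {W E : C} (ι : W ⟶ E) (P : Subobject E)

/-- The quotient by an intersection maps to the quotient. -/
def quotMap : cokernel ((Subobject.pullback ι).obj P).arrow ⟶ cokernel P.arrow :=
  cokernel.desc _ (ι ≫ cokernel.π _) (by
    rw [← Category.assoc, ← (Subobject.isPullback ι P).w, Category.assoc, cokernel.condition, Limits.comp_zero])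

instance mono_quotMap : Mono (quotMap ι P) := by
  refine Preadditive.mono_of_cancel_zero _ fun {T} a ha => ?_
  obtain ⟨T', p, hp, b, hb⟩ := surjective_up_to_refinements_of_epi
    (cokernel.π ((Subobject.pullback ι).obj P).arrow) a
  have h0 : (b ≫ ι) ≫ cokernel.π P.arrow = 0 := by
    have h := congrArg (· ≫ quotMap ι P) hb
    simp only [Category.assoc, ha, Limits.comp_zero] at h
    simp only [quotMap, cokernel.π_desc] at h
    rw [Category.assoc]
    exact h.symm
  obtain ⟨l, hl⟩ := (ShortComplex.exact_cokernel P.arrow).lift' (b ≫ ι) h0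
  let l' := (Subobject.isPullback ι P).lift l b hl
  have hbl : l' ≫ ((Subobject.pullback ι).obj P).arrow = b := (Subobject.isPullback ι P).lift_snd _ _ _
  rw [← cancel_epi p, hb, ← hbl, Category.assoc, cokernel.condition, Limits.comp_zero, Limits.comp_zero]

end Abelian

variable {X : Scheme.{u}} (k : Type u) [Field k] [X.Over (Spec (CommRingCat.of k))]
  [IsProper (X ↘ Spec (CommRingCat.of k))] {L : X.Modules}

theorem hilb_isZero {M : X.Modules} (hM : Coh.IsCoh M) (hz : IsZero M) (hL : CohB1.IsAmple L)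
    {Q : ℚ[X]} (hQ : ShStab.IsHilbPoly k X L M Q) : Q = 0 := by
  haveI := CurveCohLib.isNoetherian_of_proper (k := k) (X := X)
  have h := degree_lt_of_support k hL hM (T := ∅) (d := 0)
    (QCoh.support_eq_empty_of_isZero hz hM.1).subset (by
      haveI : IsEmpty (TopologicalSpace.IrreducibleCloseds ↥(∅ : Set X)) :=
        ⟨fun Z => isEmptyElim Z.2.nonempty.some⟩
      rw [topologicalKrullDim, Order.krullDim_eq_bot]; exact WithBot.bot_lt_coe _) hQ
  exact Polynomial.degree_eq_bot.1 (by simpa using h)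

theorem hilb_iso {M N : X.Modules} (e : M ≅ N) {P Q : ℚ[X]} (hP : ShStab.IsHilbPoly k X L M P)
    (hQ : ShStab.IsHilbPoly k X L N Q) : P = Q := by
  refine eq_of_eval_nat fun n => ?_
  rw [← hP n, ← hQ n]
  exact congrArg Int.cast (CurveCohLib.euler_congr (k := k)
    ((AmpleVan.tw (CohB1.tensorPow L n)).mapIso e))

theorem hilb_sub {A E : X.Modules} (f : A ⟶ E) [Mono f] (hL : CohB1.IsAmple L) (hA : Coh.IsCoh A)
    (hE : Coh.IsCoh E) {P Q : ℚ[X]} (hP : ShStab.IsHilbPoly k X L E P)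
    (hQ : ShStab.IsHilbPoly k X L (cokernel f) Q) : ShStab.IsHilbPoly k X L A (P - Q) := fun m => by
  haveI := CurveCohLib.isNoetherian_of_proper (k := k) (X := X)
  have h := euler_twist_add k (T := ShortComplex.mk f (cokernel.π f) (cokernel.condition _))
    { exact := ShortComplex.exact_cokernel _, mono_f := inferInstance, epi_g := inferInstance }
    hA hE (QCoh.isCoh_cokernel hA.1 hE _) hL.1 m
  dsimp only at h
  rw [Polynomial.eval_sub, ← hP m, ← hQ m, h]
  push_cast
  ring

theorem parPoly_eq {C : Type u} [Category.{v} C] {E : C} (𝓔 : ParSh.Str E) (P : ℚ[X])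
    (PX : Fin (𝓔.l + 2) → ℚ[X]) (h0 : PX 0 = P) :
    parPoly 𝓔 PX = rpoly P - ∑ j : Fin (𝓔.l + 1),
      Polynomial.C (𝓔.wtX j.succ - 𝓔.wtX j.castSucc) * (rpoly P - rpoly (PX j.succ)) := by
  refine Polynomial.ext fun n => ?_
  rw [parPoly_coeff 𝓔 P PX h0 n, Polynomial.coeff_sub, Polynomial.finsetSum_coeff, Polynomial.coeff_map]
  refine congrArg _ (Finset.sum_congr rfl fun j _ => ?_)
  rw [Polynomial.coeff_C_mul, Polynomial.coeff_sub, Polynomial.coeff_map, Polynomial.coeff_map]
  rfl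

theorem wtX_mono {C : Type u} [Category.{v} C] {E : C} (𝓔 : ParSh.Str E) (j : Fin (𝓔.l + 1)) :
    𝓔.wtX j.castSucc ≤ 𝓔.wtX j.succ := by
  rw [𝓔.wtX_castSucc]
  induction j using Fin.lastCases with
  | last => rw [Fin.succ_last, 𝓔.wtX_last]; exact 𝓔.wt_lt_one.le
  | cast i => rw [Fin.succ_castSucc, 𝓔.wtX_castSucc]; exact (𝓔.wt_strictMono (Fin.castSucc_lt_succ (i := i))).le

variable {T : Set X} {E W : X.Modules} {𝓔 : ParSh.Str E} {d : ℕ}

/-- For semistable quotients the first modified polynomial is bounded by the parabolic one. -/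
theorem parPolyOne_le (hL : CohB1.IsAmple L) (hE : Coh.IsCoh E) (hA : AgreeOff T 𝓔)
    (hcoh : ∀ j, Coh.IsCoh ((𝓔.pieceX j : Subobject E) : X.Modules))
    (hdim : topologicalKrullDim ↥(CohB1.support E ∩ T) < (d : WithBot ℕ∞))
    {H : Fin (𝓔.l + 2) → ℚ[X]} (hH : ∀ j, ShStab.IsHilbPoly k X L (cokernel (𝓔.pieceX j).arrow) (H j))
    (hHa : ∀ j : Fin (𝓔.l + 1), StabCat.alpha (d - 1) (H j.succ) ≠ 0)
    (hq : ∀ j : Fin (𝓔.l + 1), StabCat.IsSS Coh.IsCoh (ShStab.IsHilbPoly k X L) (d - 1)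
      (cokernel (𝓔.pieceX j.succ).arrow))
    (ι : W ⟶ E) [Mono ι] (hW : Coh.IsCoh W) {Q : ℚ[X]} (hQ : ShStab.IsHilbPoly k X L W Q)
    {QH : Fin (𝓔.l + 2) → ℚ[X]}
    (hQH : ∀ j, ShStab.IsHilbPoly k X L (cokernel ((𝓔.induced ι).pieceX j).arrow) (QH j)) :
    ∃ QX : Fin (𝓔.l + 2) → ℚ[X],
      (∀ j, ShStab.IsHilbPoly k X L (((𝓔.induced ι).pieceX j : Subobject W) : X.Modules) (QX j)) ∧
        ∀ᶠ m : ℕ in Filter.atTop, (parPolyOne 𝓔 d Q QH H).eval (m : ℝ) ≤
          (parPoly (𝓔.induced ι) QX).eval (m : ℝ) := by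
  haveI := CurveCohLib.isNoetherian_of_proper (k := k) (X := X)
  have hcW : ∀ j, Coh.IsCoh (((𝓔.induced ι).pieceX j : Subobject W) : X.Modules) := fun j =>
    isCoh_induced hE hW 𝓔 ι hcoh j
  refine ⟨fun j => Q - QH j, fun j => hilb_sub k _ hL (hcW j) hW hQ (hQH j), ?_⟩
  have hcK : ∀ j, Coh.IsCoh (cokernel ((𝓔.induced ι).pieceX j).arrow) := fun j =>
    QCoh.isCoh_cokernel (hcW j).1 hW _
  have hev : ∀ j : Fin (𝓔.l + 1), ∀ᶠ m : ℕ in Filter.atTop, (((QH j.succ).eval (m : ℚ) : ℚ) : ℝ) ≤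
      ((StabCat.alpha (d - 1) (QH j.succ) / StabCat.alpha (d - 1) (H j.succ) : ℚ) : ℝ) *
        (((H j.succ).eval (m : ℚ) : ℚ) : ℝ) := fun j => by
    by_cases hz : IsZero (cokernel ((𝓔.induced ι).pieceX j.succ).arrow)
    · have h0 := hilb_isZero k (hcK _) hz hL (hQH j.succ)
      exact .of_forall fun m => by simp [h0, StabCat.alpha]
    let f : cokernel ((𝓔.induced ι).pieceX j.succ).arrow ⟶ cokernel (𝓔.pieceX j.succ).arrow :=
      cokernel.map _ _ (Subobject.isoOfEq _ _ (induced_pieceX 𝓔 ι j.succ)).hom (𝟙 W)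
        (by simp [Subobject.isoOfEq]) ≫ quotMap ι (𝓔.pieceX j.succ)
    haveI : Mono f := mono_comp _ _
    by_cases hi : IsIso f
    · have h1 := hilb_iso k (asIso f) (hQH j.succ) (hH j.succ)
      exact .of_forall fun m => by rw [h1, div_self (hHa j), Rat.cast_one, one_mul]
    have hpos : 0 < StabCat.alpha (d - 1) (H j.succ) := lt_of_le_of_ne (mul_nonneg (Nat.cast_nonneg _)
      (coeff_nonneg_of_support k hL (QCoh.isCoh_cokernel (hcoh j.succ).1 hE _)
        (hA.support_cokernel hE.1 j.succ (hcoh j.succ).1) hdim (hH j.succ))) (hHa j).symm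
    obtain ⟨N, hN⟩ := hq j _ f inferInstance (hcK _) hz hi _ _ (hQH j.succ) (hH j.succ)
    filter_upwards [Filter.eventually_ge_atTop N] with m hm
    have h := hN m hm
    simp only [Polynomial.eval_smul, smul_eq_mul] at h
    rw [← Rat.cast_mul, Rat.cast_le, div_mul_eq_mul_div, le_div_iff₀ hpos]
    linarith
  filter_upwards [Filter.eventually_all.2 hev] with m hm
  have h0 : QH 0 = 0 := by
    refine hilb_isZero k (hcK _) ?_ hL (hQH 0)
    have : (𝓔.induced ι).pieceX 0 = ⊤ := ((𝓔.induced ι).pieceX_castSucc 0).trans (𝓔.induced ι).piece_zero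
    haveI : Epi ((𝓔.induced ι).pieceX 0).arrow := by rw [this]; infer_instance
    exact isZero_cokernel_of_epi _
  rw [parPoly_eq (𝓔.induced ι) Q _ (by rw [h0, sub_zero]), parPolyOne, Polynomial.eval_sub,
    Polynomial.eval_sub, Polynomial.eval_finsetSum, Polynomial.eval_finsetSum]
  refine sub_le_sub_left (Finset.sum_le_sum fun j _ => ?_) _
  rw [Polynomial.eval_mul, Polynomial.eval_C, Polynomial.eval_mul, Polynomial.eval_C]
  show (𝓔.wtX j.succ - 𝓔.wtX j.castSucc) * (rpoly Q - rpoly (Q - QH j.succ)).eval (m : ℝ) ≤ _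
  rw [show rpoly Q - rpoly (Q - QH j.succ) = rpoly (QH j.succ) by simp, eval_rpoly, eval_rpoly, mul_assoc]
  exact mul_le_mul_of_nonneg_left (hm j) (sub_nonneg.2 (wtX_mono 𝓔 j))

theorem alpha_nonneg (hL : CohB1.IsAmple L) (hE : Coh.IsCoh E) (hpure : ShStab.IsPure X E d) (h0 : ¬ IsZero E)
    {P : ℚ[X]} (hP : ShStab.IsHilbPoly k X L E P) : 0 ≤ StabCat.alpha d P := by
  haveI := CurveCohLib.isNoetherian_of_proper (k := k) (X := X)
  have hd : topologicalKrullDim ↥(CohB1.support E) < ((d + 1 : ℕ) : WithBot ℕ∞) := by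
    rw [hpure E (𝟙 E) inferInstance hE h0]
    exact_mod_cast Nat.lt_succ_self d
  exact mul_nonneg (Nat.cast_nonneg _) (coeff_nonneg_of_support k hL hE le_rfl hd hP)

end Groth.Agent.ParShLib
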