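import Groth.Agent.ParShLib.ModOne
import Groth.Agent.HilbPoly.Sat

/-!
# Monotonicity of the parabolic polynomial in the sub-module
-/

set_option linter.style.haveILetI false
set_option linter.unusedSectionVars false
set_option backward.isDefEq.respectTransparency false
set_option backward.isDefEq.respectTransparency.types false
set_option autoImplicit false

universe u

open CategoryTheory CategoryTheory.Limits AlgebraicGeometry Polynomial

noncomputable section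

namespace Groth.Agent.ParShLib

open Groth.Agent W4swparbununimod

variable {X : Scheme.{u}} (k : Type u) [Field k] [X.Over (Spec (CommRingCat.of k))]
  [IsProper (X ↘ Spec (CommRingCat.of k))] {L : X.Modules} {E W W' : X.Modules} {𝓔 : ParSh.Str E} {d : ℕ}

theorem sum_diff_eq {C : Type*} [Category C] {E : C} (𝓔 : ParSh.Str E) :
    ∑ j : Fin (𝓔.l + 1), (𝓔.wtX j.succ - 𝓔.wtX j.castSucc) = 1 - 𝓔.wt 0 := by
  have h1 := Fin.sum_univ_succ 𝓔.wtX
  have h2 := Fin.sum_univ_castSucc 𝓔.wtX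
  have e0 : 𝓔.wtX 0 = 𝓔.wt 0 := 𝓔.wtX_castSucc 0
  rw [𝓔.wtX_last] at h2
  rw [Finset.sum_sub_distrib]
  linarith

/-- The parabolic polynomial grows with the sub-module. -/
theorem parPoly_le_of_le (hL : CohB1.IsAmple L) (hE : Coh.IsCoh E)
    (hcoh : ∀ j, Coh.IsCoh ((𝓔.pieceX j : Subobject E) : X.Modules))
    (hdE : topologicalKrullDim ↥(CohB1.support E) ≤ (d : WithBot ℕ∞))
    (l : W ⟶ W') (ι' : W' ⟶ E) [Mono l] [Mono ι'] (ι : W ⟶ E) (hl : l ≫ ι' = ι)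
    (hW : Coh.IsCoh W) (hW' : Coh.IsCoh W') {Q Q' : ℚ[X]} (hQ : ShStab.IsHilbPoly k X L W Q)
    (hQ' : ShStab.IsHilbPoly k X L W' Q') {QX QX' : Fin (𝓔.l + 2) → ℚ[X]}
    (hQX : ∀ j, ShStab.IsHilbPoly k X L (((𝓔.induced ι).pieceX j : Subobject W) : X.Modules) (QX j))
    (hQX' : ∀ j, ShStab.IsHilbPoly k X L (((𝓔.induced ι').pieceX j : Subobject W') : X.Modules) (QX' j)) :
    ∀ᶠ m : ℕ in Filter.atTop, (parPoly (𝓔.induced ι) QX).eval (m : ℝ) ≤
      (parPoly (𝓔.induced ι') QX').eval (m : ℝ) := by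
  haveI := CurveCohLib.isNoetherian_of_proper (k := k) (X := X)
  subst hl
  haveI : Mono (l ≫ ι') := mono_comp _ _
  have hdW' := HilbPoly.dim_mono hW' hE ι' hdE
  have key : ∀ {A B : X.Modules} (f : A ⟶ B) [Mono f], Coh.IsCoh A → Coh.IsCoh B →
      topologicalKrullDim ↥(CohB1.support B) ≤ (d : WithBot ℕ∞) → ∀ {p q : ℚ[X]},
      ShStab.IsHilbPoly k X L A p → ShStab.IsHilbPoly k X L B q →
      ∀ᶠ m : ℕ in Filter.atTop, ((p.eval (m : ℚ) : ℚ) : ℝ) ≤ ((q.eval (m : ℚ) : ℚ) : ℝ) :=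
    fun {A B} f _ hA hB hd {p q} hp hq => by
      obtain ⟨hC, hdC, hpC⟩ := HilbPoly.cokernel_data hL hA hB hd f hp hq
      obtain ⟨N, hN⟩ := HilbPoly.hilb_nonneg hL hC hdC hpC
      filter_upwards [Filter.eventually_ge_atTop N] with m hm
      have := hN m hm
      simp only [Polynomial.eval_zero, Polynomial.eval_sub] at this
      exact_mod_cast sub_nonneg.1 this
  have hpc : ∀ j, Coh.IsCoh (((𝓔.induced ι').pieceX j : Subobject W') : X.Modules) := fun j =>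
    isCoh_induced hE hW' 𝓔 ι' hcoh j
  have hev : ∀ j : Fin (𝓔.l + 1), ∀ᶠ m : ℕ in Filter.atTop,
      (((QX j.succ).eval (m : ℚ) : ℚ) : ℝ) ≤ (((QX' j.succ).eval (m : ℚ) : ℚ) : ℝ) := fun j => by
    have e : (Subobject.pullback l).obj ((𝓔.induced ι').pieceX j.succ) = (𝓔.induced (l ≫ ι')).pieceX j.succ := by
      rw [induced_pieceX 𝓔 ι' j.succ, induced_pieceX 𝓔 (l ≫ ι') j.succ, Subobject.pullback_comp]
    haveI : Mono (Subobject.pullbackπ l ((𝓔.induced ι').pieceX j.succ)) :=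
      (Subobject.isPullback l _).mono_fst_of_mono
    exact key ((Subobject.isoOfEq _ _ e).inv ≫ Subobject.pullbackπ l _)
      (isCoh_induced hE hW 𝓔 (l ≫ ι') hcoh _) (hpc _) (HilbPoly.dim_mono (hpc _) hW' (Subobject.arrow _) hdW')
      (hQX _) (hQX' _)
  filter_upwards [Filter.eventually_all.2 hev, key l hW hW' hdW' hQ hQ'] with m hm hm0
  rw [parPoly_eq (𝓔.induced (l ≫ ι')) Q QX (hilb_zero k hL _ hQ hQX),
    parPoly_eq (𝓔.induced ι') Q' QX' (hilb_zero k hL _ hQ' hQX')]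
  have hA : ∀ (q : ℚ[X]) (p : Fin (𝓔.l + 2) → ℚ[X]),
      (rpoly q - ∑ j : Fin (𝓔.l + 1), Polynomial.C (𝓔.wtX j.succ - 𝓔.wtX j.castSucc) *
        (rpoly q - rpoly (p j.succ))).eval (m : ℝ) = 𝓔.wt 0 * ((q.eval (m : ℚ) : ℚ) : ℝ) +
        ∑ j : Fin (𝓔.l + 1), (𝓔.wtX j.succ - 𝓔.wtX j.castSucc) * (((p j.succ).eval (m : ℚ) : ℚ) : ℝ) := fun q p => by
    simp only [Polynomial.eval_sub, Polynomial.eval_finsetSum, Polynomial.eval_mul, Polynomial.eval_C, eval_rpoly,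
      mul_sub, Finset.sum_sub_distrib, ← Finset.sum_mul]
    rw [← Finset.sum_sub_distrib, sum_diff_eq]
    ring
  show (rpoly Q - ∑ j : Fin (𝓔.l + 1), Polynomial.C (𝓔.wtX j.succ - 𝓔.wtX j.castSucc) *
      (rpoly Q - rpoly (QX j.succ))).eval (m : ℝ) ≤ (rpoly Q' - ∑ j : Fin (𝓔.l + 1),
      Polynomial.C (𝓔.wtX j.succ - 𝓔.wtX j.castSucc) * (rpoly Q' - rpoly (QX' j.succ))).eval (m : ℝ)
  rw [hA Q QX, hA Q' QX']
  exact add_le_add (mul_le_mul_of_nonneg_left hm0 𝓔.wt_nonneg)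
    (Finset.sum_le_sum fun j _ => mul_le_mul_of_nonneg_left (hm j) (sub_nonneg.2 (wtX_mono 𝓔 j)))

end Groth.Agent.ParShLib
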